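import Cfsg.Agent.Lib.Char.Burnside
import Cfsg.Agent.Lib.Char.Kernel
import Cfsg.Agent.Lib.BlockReg.Foundation
import Cfsg.Agent.Lib.BlockReg.Integral
import Cfsg.Agent.Lib.Blk83.LocalFacts
import Cfsg.Agent.Lib.BlockPrincipal.Parity
import Cfsg.Agent.Lib.Components.Subnormal
import Cfsg.Agent.Lib.Solvable.Core
import Cfsg.Agent.Lib.Transfer.PResidual

/-! Kazarin's theorem: a class of prime power size generates a soluble subgroup. -/

set_option autoImplicit false

open Cfsg
open scoped ComplexConjugate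

universe u

namespace CfsgLib.KazarinClass

variable {G : Type u} [Group G] [Finite G]

theorem li_root_eq_one {r : ℕ} {M : Ideal AlgInt} (hM : IsPModular r M) {ω : ℂ} {m : ℕ}
    (hm : ¬ r ∣ m) (hω : ω ^ m = 1) (h : MemLocalIdeal M (ω - 1)) : ω = 1 := by
  by_contra hne
  haveI : M.IsMaximal := hM.2.1
  have hm0 : m ≠ 0 := fun h0 => hm (h0 ▸ dvd_zero r)
  have hint : IsIntegral ℤ ω :=
    IsIntegral.of_pow (Nat.pos_of_ne_zero hm0) (by rw [hω]; exact isIntegral_one)
  have hsum : ∑ i ∈ Finset.range m, ω ^ i = 0 := by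
    rw [geom_sum_eq hne, hω, sub_self, zero_div]
  have h1 : MemLocalIdeal M (∑ i ∈ Finset.range m, (ω ^ i - 1)) := by
    refine CfsgLib.Blk83.li_sum _ fun i _ => ?_
    rw [← geom_sum_mul]
    exact CfsgLib.Blk83.li_mul_int (IsIntegral.sum _ fun j _ => hint.pow j) h
  rw [Finset.sum_sub_distrib, hsum, Finset.sum_const, Finset.card_range, nsmul_one, zero_sub] at h1
  exact CfsgLib.Blk83.natCast_not_li hM hm (by simpa using CfsgLib.Blk83.li_neg h1)

theorem eq_top_or_mem_bot {N : Subgroup G}
    (hmin : ∀ K : Subgroup G, K.Normal → K ≤ N → K = ⊥ ∨ K = N) {S : Subgroup G} (hSN : S ≤ N)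
    (hS : Group.IsSolvable S) (hn : N ≤ Subgroup.normalizer (S : Set G)) [N.Normal]
    (hNns : ¬ Group.IsSolvable N) : S = ⊥ := by
  set X : Set (Subgroup N) := {K | K.Normal ∧ Group.IsSolvable K}
  obtain ⟨-, hR⟩ := CfsgLib.Solvable.sSup_induction_normal (G := N)
    (P := fun K => Group.IsSolvable K) inferInstance
    (fun A B _ hB hA' hB' => CfsgLib.Components.isSolvable_sup hA' hB'
      (by rw [Subgroup.normalizer_eq_top_iff.2 hB]; exact le_top))
    (Set.toFinite X) (fun K hK => hK)
  set R := sSup X with hRdef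
  have hchar : R.Characteristic := by
    refine Subgroup.characteristic_iff_map_le.2 fun φ => ?_
    rw [hRdef, sSup_eq_iSup, Subgroup.map_iSup]
    refine iSup_le fun K => ?_
    rw [Subgroup.map_iSup]
    refine iSup_le fun hK => ?_
    haveI := hK.2
    exact le_iSup₂_of_le (K.map φ.toMonoidHom)
      ⟨hK.1.map _ φ.surjective,
        Group.isSolvable_of_surjective (φ.toMonoidHom.subgroupMap_surjective K)⟩ le_rfl
  have hSX : S.subgroupOf N ≤ R := by
    refine le_sSup ⟨(Subgroup.normal_subgroupOf_iff_le_normalizer hSN).2 hn, ?_⟩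
    exact Group.isSolvable_of_surjective
      (f := (Subgroup.subgroupOfEquivOfLe hSN).symm.toMonoidHom) (MulEquiv.surjective _)
  rcases hmin (R.map N.subtype) inferInstance (Subgroup.map_subtype_le R) with h | h
  · rw [Subgroup.map_eq_bot_iff_of_injective _ N.subtype_injective] at h
    rw [h, le_bot_iff, Subgroup.subgroupOf_eq_bot, disjoint_iff, inf_eq_left.2 hSN] at hSX
    exact hSX
  · exfalso
    apply hNns
    have hRt : R = ⊤ := Subgroup.map_injective N.subtype_injective
      (by rw [h, ← MonoidHom.range_eq_map, Subgroup.range_subtype])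
    rw [hRt] at hR
    exact Group.isSolvable_of_surjective (f := (Subgroup.topEquiv : (⊤ : Subgroup N) ≃* N).toMonoidHom)
      (MulEquiv.surjective _)

theorem relIndex_eq_of_normal {D N H : Subgroup G} [N.Normal] (hN : N ≤ H) (hH : (D ⊓ H) ⊔ N = H) :
    D.relIndex H = D.relIndex N := by
  have h1 : N.relIndex H * D.relIndex N = D.relIndex H * (D ⊓ N).relIndex (D ⊓ H) := by
    have a := Subgroup.relIndex_mul_relIndex (D ⊓ N) N H inf_le_right hN
    have b := Subgroup.relIndex_mul_relIndex (D ⊓ N) (D ⊓ H) H (inf_le_inf_left D hN) inf_le_right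
    rw [Subgroup.inf_relIndex_right] at a b
    rw [mul_comm, a, ← b, mul_comm]
  have h2 : (D ⊓ N).relIndex (D ⊓ H) = N.relIndex H := by
    conv_rhs => rw [← hH, Subgroup.relIndex_sup_right]
    rw [← Subgroup.inf_relIndex_right N (D ⊓ H)]
    congr 1
    rw [inf_comm N, inf_assoc, inf_eq_right.2 hN]
  rw [h2, mul_comm (D.relIndex H)] at h1
  exact (Nat.eq_of_mul_eq_mul_left (Nat.pos_of_ne_zero fun h0 => by
    have := Subgroup.relIndex_dvd_card N H
    rw [h0, zero_dvd_iff] at this
    exact Nat.card_pos.ne' this) h1).symm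

theorem isSolvable_of_map {H : Type*} [Group H] (f : G →* H) (L : Subgroup G)
    (hL : Group.IsSolvable (L.map f)) (hker : Group.IsSolvable (L ⊓ f.ker : Subgroup G)) :
    Group.IsSolvable L :=
  Group.isSolvable_of_ker_le_range (Subgroup.inclusion (inf_le_left : L ⊓ f.ker ≤ L))
    (f.subgroupMap L) (fun x hx => ⟨⟨x, x.2, congrArg Subtype.val hx⟩, Subtype.ext rfl⟩)

/-- In the critical configuration there is a contradiction. -/
theorem not_config {p q j k : ℕ} (hp : p.Prime) (hq : q.Prime) {x : G} (hx : orderOf x = q ^ j)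
    (hcl : (Subgroup.centralizer ({x} : Set G)).index = p ^ k) {N : Subgroup G} [N.Normal]
    (hmin : ∀ K : Subgroup G, K.Normal → K ≤ N → K = ⊥ ∨ K = N)
    (hNns : ¬ Group.IsSolvable N) (hG : N ⊔ Subgroup.zpowers x = ⊤)
    (hcent : ¬ ∀ n ∈ N, n * x = x * n) : False := by
  classical
  obtain ⟨r, hr, hrN, hrp, hrq⟩ : ∃ r : ℕ, r.Prime ∧ r ∣ Nat.card N ∧ r ≠ p ∧ r ≠ q := by
    by_contra h
    refine hNns (CfsgLib.Char.isSolvable_of_two_primes p q hp hq _ N rfl fun r hr hrN => ?_)
    by_contra h'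
    simp only [not_or] at h'
    exact h ⟨r, hr, hrN, h'.1, h'.2⟩
  have : Fact r.Prime := ⟨hr⟩
  obtain ⟨M, hM⟩ := CfsgLib.BlockReg.exists_isPModular hr
  obtain ⟨z, hz⟩ := exists_prime_orderOf_dvd_card' (G := N) r hrN
  haveI : Fintype (IrrCharacter G) := Fintype.ofFinite _
  haveI : M.IsMaximal := hM.2.1
  set B := principalBlock M G with hB
  have hsum := CfsgLib.BlockReg.block_orthogonality hM (CfsgLib.BlockPrincipal.isPBlock_principal
    (M := M) (G := G)) 1 (z : G) (by rw [orderOf_one]; exact hr.not_dvd_one)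
    (by rw [Subgroup.orderOf_coe, hz])
  -- every nontrivial member has degree divisible by `p`
  have hdeg : ∀ χ ∈ B, χ ≠ CfsgLib.Char.principalIrr →
      p ∣ CfsgLib.Char.degree (χ : G → ℂ) := by
    intro χ hχ hne
    by_contra hd
    obtain ⟨n, ρ, hρ, hchar⟩ := χ.2
    haveI := hρ
    have hω : MemLocalIdeal M
        (centralChar (fun _ : G => (1 : ℂ)) x - centralChar (χ : G → ℂ) x) := hχ x
    rw [CfsgLib.BlockPrincipal.centralChar_principal] at hω
    simp only [centralChar, CfsgLib.BlockReg.csize, hcl] at hω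
    have hd' : ¬ p ∣ Module.finrank ℂ (Fin n → ℂ) := by
      rwa [← hchar, CfsgLib.Char.degree_character] at hd
    have hcop : Nat.Coprime (Module.finrank ℂ (Fin n → ℂ))
        (Subgroup.centralizer ({x} : Set G)).index := by
      rw [hcl]; exact Nat.Coprime.pow_right k ((hp.coprime_iff_not_dvd.mpr hd').symm)
    have hrk : ¬ r ∣ p ^ k := fun h => hrp ((Nat.prime_dvd_prime_iff_eq hr hp).1 (hr.dvd_of_dvd_pow h))
    have hne0 : ρ.character x ≠ 0 := by
      intro h0
      rw [← hchar, h0, mul_zero, zero_div, sub_zero] at hω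
      exact CfsgLib.Blk83.natCast_not_li hM hrk hω
    obtain ⟨ω, hω'⟩ := CfsgLib.Char.eq_smul_one_of_norm_character_eq ρ x
      ((CfsgLib.Char.char_eq_zero_or_norm_eq_finrank ρ x hcop).resolve_left hne0)
    -- `N` is in the kernel
    have hker : N ≤ MonoidHom.ker ρ := by
      rcases hmin (MonoidHom.ker ρ ⊓ N) inferInstance inf_le_right with h | h
      · exfalso
        apply hcent
        intro a ha
        have h1 : a * x * a⁻¹ * x⁻¹ ∈ MonoidHom.ker ρ ⊓ N := by
          refine ⟨?_, ?_⟩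
          · show ρ (a * x * a⁻¹ * x⁻¹) = 1
            have hc : ρ a * ρ x = ρ x * ρ a := by
              rw [hω', mul_smul_comm, mul_one, smul_mul_assoc, one_mul]
            rw [map_mul, map_mul, map_mul, hc, mul_assoc (ρ x), ← map_mul, mul_inv_cancel, map_one,
              mul_one, ← map_mul, mul_inv_cancel, map_one]
          · rw [mul_assoc a x, mul_assoc]
            exact N.mul_mem ha (‹N.Normal›.conj_mem _ (N.inv_mem ha) x)
        rw [h, Subgroup.mem_bot, mul_inv_eq_one, mul_inv_eq_iff_eq_mul] at h1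
        exact h1
      · exact h ▸ inf_le_left
    have hn1 : n ≠ 0 := by
      rintro rfl; exact hne0 (by simp [Representation.character, Subsingleton.elim (ρ x) 0])
    -- `x` is in the kernel
    have hωq : ω ^ (q ^ j) = 1 := by
      have h1 : ρ (x ^ (q ^ j)) = 1 := by rw [← hx, pow_orderOf_eq_one, map_one]
      rw [map_pow, hω', smul_pow, one_pow] at h1
      have h2 := congrArg (LinearMap.trace ℂ (Fin n → ℂ)) h1
      rw [map_smul, smul_eq_mul, LinearMap.trace_one] at h2
      exact mul_right_cancel₀ (b := (Module.finrank ℂ (Fin n → ℂ) : ℂ))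
        (by simpa using hn1) (by rw [h2, one_mul])
    have hω1 : ω = 1 := by
      refine li_root_eq_one hM (fun h => hrq ((Nat.prime_dvd_prime_iff_eq hr hq).1
        (hr.dvd_of_dvd_pow h))) hωq ?_
      refine CfsgLib.Blk83.li_of_natCast_mul hM hrk ?_
      have e : ((p ^ k : ℕ) : ℂ) * (ω - 1) =
          -(((p ^ k : ℕ) : ℂ) - ((p ^ k : ℕ) : ℂ) * ρ.character x / ρ.character 1) := by
        simp only [Representation.character, hω', map_smul, map_one, LinearMap.trace_one, smul_eq_mul]
        have : ((Module.finrank ℂ (Fin n → ℂ) : ℕ) : ℂ) ≠ 0 := by simpa using hn1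
        field_simp
        ring
      rw [e]
      exact CfsgLib.Blk83.li_neg (by rw [← hchar] at hω; exact hω)
    have htriv : ∀ g, ρ g = 1 := by
      have hle : N ⊔ Subgroup.zpowers x ≤ MonoidHom.ker ρ := by
        refine sup_le hker (Subgroup.zpowers_le.2 ?_)
        show ρ x = 1
        rw [hω', hω1, one_smul]
      rw [hG] at hle
      exact fun g => hle (Subgroup.mem_top g)
    apply hne
    apply Subtype.ext
    funext g
    rw [← hchar]
    have hn := CfsgLib.CharKernel.finrank_eq_one_of_trivial ρ htriv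
    rw [Module.finrank_fin_fun] at hn
    simp [Representation.character, htriv g, LinearMap.trace_one, CfsgLib.Char.principalIrr, hn]
  -- conclusion
  have hone : (CfsgLib.Char.principalIrr : IrrCharacter G) ∈ B :=
    CfsgLib.BlockPrincipal.principalIrr_mem hM
  rw [← hB, finsum_mem_eq_toFinset_sum, ← Finset.add_sum_erase _ _ (Set.mem_toFinset.2 hone)] at hsum
  have hint : IsIntegral ℤ ((∑ χ ∈ B.toFinset.erase CfsgLib.Char.principalIrr,
      (χ : G → ℂ) 1 * conj ((χ : G → ℂ) (z : G))) / (p : ℂ)) := by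
    rw [Finset.sum_div]
    refine IsIntegral.sum _ fun χ hχ => ?_
    obtain ⟨c, hc⟩ := hdeg χ (Set.mem_toFinset.1 (Finset.mem_of_mem_erase hχ))
      (Finset.ne_of_mem_erase hχ)
    rw [← CfsgLib.Char.IsCharacter.degree_cast (CfsgLib.Char.IsIrrCharacter.isCharacter χ.2), hc,
      ← CfsgLib.Char.IsIrrCharacter.apply_inv χ.2]
    push_cast
    rw [mul_assoc, mul_div_cancel_left₀ _ (Nat.cast_ne_zero.mpr hp.ne_zero)]
    exact IsIntegral.mul (isIntegral_algebraMap (R := ℤ) (x := (c : ℤ)))
      (CfsgLib.BlockReg.isIntegral_char χ _)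
  rw [eq_neg_of_add_eq_zero_right hsum] at hint
  have h1 : IsIntegral ℤ ((1 : ℕ) / (p : ℂ)) := by
    simpa [neg_div, CfsgLib.Char.principalIrr] using hint.neg
  exact hp.one_lt.ne' (Nat.dvd_one.mp (CfsgLib.Char.dvd_of_isIntegral_natCast_div hp.ne_zero h1))

theorem prime_power_case {p q : ℕ} (hp : p.Prime) (hq : q.Prime) : ∀ (n : ℕ) (G : Type u) [Group G]
    [Finite G], Nat.card G = n → ∀ (x : G) (j k : ℕ), orderOf x = q ^ j →
      (Subgroup.centralizer ({x} : Set G)).index = p ^ k →
      Group.IsSolvable ↥(Subgroup.normalClosure ({x} : Set G)) := by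
  intro n
  induction n using Nat.strong_induction_on with
  | _ n ih =>
  intro G _ _ hn x j k hx hcl
  have : Fact p.Prime := ⟨hp⟩
  set L := Subgroup.normalClosure ({x} : Set G) with hLdef
  by_contra hLns
  rcases subsingleton_or_nontrivial G with hs | hnt
  · exact hLns inferInstance
  obtain ⟨N, hNn, hN1, -, hmin⟩ := CfsgLib.Solvable.exists_minimal_normal_le (⊤ : Subgroup G) top_ne_bot
  -- the quotient
  have hquot : Group.IsSolvable (L.map (QuotientGroup.mk' N)) := by
    have hlt : Nat.card (G ⧸ N) < n := by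
      rw [← hn, ← Subgroup.card_mul_index N, ← Subgroup.index_eq_card]
      exact lt_mul_left (Nat.pos_of_ne_zero Subgroup.index_ne_zero_of_finite)
        (Subgroup.one_lt_card_iff_ne_bot N |>.2 hN1)
    obtain ⟨j', -, hj'⟩ := (Nat.dvd_prime_pow hq).1
      (hx ▸ orderOf_map_dvd (QuotientGroup.mk' N) x)
    have hdvd : (Subgroup.centralizer ({QuotientGroup.mk' N x} : Set (G ⧸ N))).index ∣ p ^ k := by
      rw [← hcl]
      refine (Subgroup.index_dvd_of_le ?_).trans
        (Subgroup.index_map_dvd (Subgroup.centralizer ({x} : Set G)) (QuotientGroup.mk'_surjective N))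
      rintro _ ⟨c, hc, rfl⟩
      rw [Subgroup.mem_centralizer_singleton_iff, ← map_mul, ← map_mul,
        Subgroup.mem_centralizer_singleton_iff.1 hc]
    obtain ⟨k', -, hk'⟩ := (Nat.dvd_prime_pow hp).1 hdvd
    have := ih _ hlt (G ⧸ N) rfl _ j' k' hj' hk'
    rwa [hLdef, Subgroup.map_normalClosure _ _ (QuotientGroup.mk'_surjective N), Set.image_singleton]
  have hNns : ¬ Group.IsSolvable N := fun h => hLns (isSolvable_of_map _ L hquot (by
    rw [QuotientGroup.ker_mk']
    haveI := h
    exact Group.isSolvable_of_isSolvable_injective (Subgroup.inclusion_injective (inf_le_right : L ⊓ N ≤ N))))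
  have hNL : N ≤ L := by
    rcases hmin (L ⊓ N) inferInstance inf_le_right with h | h
    · exact absurd (isSolvable_of_map _ L hquot (by
        rw [QuotientGroup.ker_mk', h]; infer_instance)) hLns
    · exact h ▸ inf_le_left
  -- `x` does not centralize `N`
  have hcent : ¬ ∀ a ∈ N, a * x = x * a := by
    intro h
    have hLC : L ≤ Subgroup.centralizer (N : Set G) :=
      Subgroup.normalClosure_le_normal (Set.singleton_subset_iff.2 (fun a ha => h a ha))
    exact hNns (Group.isSolvable_of_comm fun a b => Subtype.ext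
      (hLC (hNL b.2) a a.2))
  by_cases hG : N ⊔ Subgroup.zpowers x = ⊤
  · exact not_config hp hq hx hcl hmin hNns hG hcent
  apply hcent
  set H := N ⊔ Subgroup.zpowers x with hHdef
  have hxH : x ∈ H := Subgroup.mem_sup_right (Subgroup.mem_zpowers x)
  set C := Subgroup.centralizer ({(⟨x, hxH⟩ : H)} : Set H) with hC
  have hCi : C.index ∣ p ^ k := by
    rw [← hcl]
    have hNC : C = (Subgroup.centralizer ({x} : Set G)).subgroupOf H := by
      ext y
      simp only [hC, Subgroup.mem_subgroupOf, Subgroup.mem_centralizer_singleton_iff, Subtype.ext_iff,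
        Subgroup.coe_mul]
    rw [hNC]
    set D := Subgroup.centralizer ({x} : Set G) with hD
    have hxD : x ∈ D := Subgroup.mem_centralizer_singleton_iff.2 rfl
    have e1 : D.relIndex H = D.relIndex N := relIndex_eq_of_normal le_sup_left
      (le_antisymm (sup_le inf_le_right le_sup_left) (sup_le le_sup_right
        ((le_inf (Subgroup.zpowers_le.2 hxD) le_sup_right).trans le_sup_left)))
    have e2 : D.relIndex (D ⊔ N) = D.relIndex N := relIndex_eq_of_normal le_sup_right
      (by rw [inf_eq_left.2 (le_sup_left : D ≤ D ⊔ N)])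
    show D.relIndex H ∣ D.index
    rw [e1, ← e2, ← Subgroup.relIndex_mul_index (le_sup_left : D ≤ D ⊔ N)]
    exact dvd_mul_right _ _
  obtain ⟨k', -, hk'⟩ := (Nat.dvd_prime_pow hp).1 hCi
  have hlt : Nat.card H < n := by
    rw [← hn]
    by_contra hge
    exact hG (Subgroup.eq_top_of_le_card H (not_lt.1 hge))
  have hsol := ih _ hlt H rfl ⟨x, hxH⟩ j k' (by rw [← Subgroup.orderOf_coe]; exact hx) hk'
  set LH := (Subgroup.normalClosure ({(⟨x, hxH⟩ : H)} : Set H)).map H.subtype with hLH
  have hS : Group.IsSolvable (LH ⊓ N : Subgroup G) := by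
    haveI := hsol
    haveI : Group.IsSolvable LH := Group.isSolvable_of_surjective
      (H.subtype.subgroupMap_surjective (Subgroup.normalClosure ({(⟨x, hxH⟩ : H)} : Set H)))
    exact Group.isSolvable_of_isSolvable_injective (Subgroup.inclusion_injective (inf_le_left : LH ⊓ N ≤ LH))
  have hbot := eq_top_or_mem_bot hmin (inf_le_right : LH ⊓ N ≤ N) hS (fun a ha => by
    refine Subgroup.mem_normalizer_fintype fun b hb => ⟨?_, hNn.conj_mem b hb.2 a⟩
    obtain ⟨c, hc, rfl⟩ := hb.1
    exact ⟨⟨a, le_sup_left (b := Subgroup.zpowers x) ha⟩ * c * ⟨a, le_sup_left (b := Subgroup.zpowers x) ha⟩⁻¹,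
      (Subgroup.normalClosure_normal).conj_mem c hc _, rfl⟩) hNns
  intro a ha
  have haH : a ∈ H := Subgroup.mem_sup_left ha
  have h1 : a * x * a⁻¹ * x⁻¹ ∈ LH ⊓ N := by
    refine ⟨⟨(⟨a, haH⟩ : H) * (⟨x, hxH⟩ : H) * (⟨a, haH⟩ : H)⁻¹ * (⟨x, hxH⟩ : H)⁻¹, ?_, rfl⟩, ?_⟩
    · have hxmem : (⟨x, hxH⟩ : H) ∈ Subgroup.normalClosure ({(⟨x, hxH⟩ : H)} : Set H) :=
        Subgroup.subset_normalClosure (Set.mem_singleton _)
      exact mul_mem ((Subgroup.normalClosure_normal).conj_mem _ hxmem _) (inv_mem hxmem)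
    · rw [mul_assoc a x, mul_assoc]
      exact N.mul_mem ha (hNn.conj_mem _ (N.inv_mem ha) x)
  rw [hbot, Subgroup.mem_bot, mul_inv_eq_one, mul_inv_eq_iff_eq_mul] at h1
  exact h1

/-- **Kazarin's theorem**. -/
theorem isSolvable_normalClosure {p : ℕ} (hp : p.Prime) : ∀ (m : ℕ) (x : G), orderOf x = m →
    (∃ k, (Subgroup.centralizer ({x} : Set G)).index = p ^ k) →
    Group.IsSolvable ↥(Subgroup.normalClosure ({x} : Set G)) := by
  intro m
  induction m using Nat.strong_induction_on with
  | _ m ih =>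
  intro x hm ⟨k, hk⟩
  by_cases hpp : ∀ a b : ℕ, m = a * b → a.Coprime b → a = 1 ∨ b = 1
  · rcases eq_or_ne m 1 with h1 | h1
    · exact prime_power_case hp hp _ G rfl x 0 k (by rw [pow_zero, hm, h1]) hk
    obtain ⟨q, hq, hqm⟩ := Nat.exists_prime_and_dvd h1
    have hm0 : m ≠ 0 := hm ▸ (orderOf_pos x).ne'
    have hmq : m = q ^ m.factorization q := by
      rcases hpp _ _ (Nat.ordProj_mul_ordCompl_eq_self m q).symm
        (Nat.Coprime.pow_left _ (Nat.coprime_ordCompl hq hm0)) with h | h
      · exfalso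
        rw [Nat.pow_eq_one] at h
        rcases h with h | h
        · exact hq.ne_one h
        · exact absurd h (hq.factorization_pos_of_dvd hm0 hqm).ne'
      · conv_lhs => rw [← Nat.ordProj_mul_ordCompl_eq_self m q, h, mul_one]
    exact prime_power_case hp hq _ G rfl x _ k (hm.trans hmq) hk
  simp only [not_forall, not_or, exists_prop] at hpp
  obtain ⟨a, b, hab, hco, ha, hb⟩ := hpp
  have hm0 : m ≠ 0 := hm ▸ (orderOf_pos x).ne'
  obtain ⟨ha0, hb0⟩ := mul_ne_zero_iff.1 (hab ▸ hm0)
  have hsub : ∀ c d : ℕ, m = c * d → c ≠ 0 → d ≠ 0 → c ≠ 1 →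
      Group.IsSolvable ↥(Subgroup.normalClosure ({x ^ c} : Set G)) := by
    intro c d hcd hc hd hc1
    have ho : orderOf (x ^ c) = d := by
      rw [orderOf_pow_of_dvd hc (hm ▸ hcd ▸ dvd_mul_right c d), hm, hcd,
        Nat.mul_div_cancel_left _ (Nat.pos_of_ne_zero hc)]
    refine ih d ?_ _ ho ?_
    · rw [hcd]; exact lt_mul_left (Nat.pos_of_ne_zero hd) (by omega)
    · obtain ⟨k', -, hk'⟩ := (Nat.dvd_prime_pow hp).1 (hk ▸ Subgroup.index_dvd_of_le
        (H := Subgroup.centralizer ({x} : Set G)) (K := Subgroup.centralizer ({x ^ c} : Set G))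
        (fun y hy => Subgroup.mem_centralizer_singleton_iff.2
          ((show Commute y x from Subgroup.mem_centralizer_singleton_iff.1 hy).pow_right c).eq))
      exact ⟨k', hk'⟩
  have hA := hsub a b hab ha0 hb0 ha
  have hBs := hsub b a (by rw [hab, mul_comm]) hb0 ha0 hb
  have hsup := CfsgLib.Components.isSolvable_sup hA hBs
    (by rw [Subgroup.normalizer_eq_top_iff.2 (Subgroup.normalClosure_normal)]; exact le_top)
  have hle : Subgroup.normalClosure ({x} : Set G) ≤
      Subgroup.normalClosure ({x ^ a} : Set G) ⊔ Subgroup.normalClosure ({x ^ b} : Set G) := by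
    refine Subgroup.normalClosure_le_normal (Set.singleton_subset_iff.2 ?_)
    have he : x ^ (Nat.gcd a b : ℤ) = (x ^ a) ^ (Nat.gcdA a b) * (x ^ b) ^ (Nat.gcdB a b) := by
      rw [Nat.gcd_eq_gcd_ab, zpow_add, zpow_mul, zpow_mul, zpow_natCast, zpow_natCast]
    rw [hco, Nat.cast_one, zpow_one] at he
    have hma : x ^ a ∈ Subgroup.normalClosure ({x ^ a} : Set G) :=
      Subgroup.subset_normalClosure (Set.mem_singleton _)
    have hmb : x ^ b ∈ Subgroup.normalClosure ({x ^ b} : Set G) :=
      Subgroup.subset_normalClosure (Set.mem_singleton _)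
    have hmem : (x ^ a) ^ (Nat.gcdA a b) * (x ^ b) ^ (Nat.gcdB a b) ∈
        Subgroup.normalClosure ({x ^ a} : Set G) ⊔ Subgroup.normalClosure ({x ^ b} : Set G) :=
      mul_mem (Subgroup.mem_sup_left (zpow_mem hma _)) (Subgroup.mem_sup_right (zpow_mem hmb _))
    rw [← he] at hmem
    exact hmem
  haveI := hsup
  exact Group.isSolvable_of_isSolvable_injective (Subgroup.inclusion_injective hle)

end CfsgLib.KazarinClass
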