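import Cfsg.Agent.Lib.KazarinClass.Basic
import Cfsg.Agent.Lib.ClassSize.SylowCentralizer

/-! Conjugates of an element with class of `p`-power size commute modulo `O_p`. -/

set_option autoImplicit false

open Cfsg

universe u

namespace CfsgLib.KazarinClass

variable {G : Type u} [Group G] [Finite G]

theorem commute_conjugates {p k : ℕ} [hp : Fact p.Prime] (hO : pCore p G = ⊥) {x : G}
    (hcl : (Subgroup.centralizer ({x} : Set G)).index = p ^ k) (g h : G) :
    (g * x * g⁻¹) * (h * x * h⁻¹) = (h * x * h⁻¹) * (g * x * g⁻¹) := by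
  set L := Subgroup.normalClosure ({x} : Set G) with hL
  haveI hsol : Group.IsSolvable L := isSolvable_normalClosure hp.out _ x rfl ⟨k, hcl⟩
  set F := fittingSubgroup L with hF
  haveI : F.Characteristic := CfsgLib.Solvable.fittingSubgroup_characteristic L
  haveI hFnil : Group.IsNilpotent F := CfsgLib.Solvable.fittingSubgroup_isNilpotent L
  set F' := F.map L.subtype with hF'
  haveI : F'.Normal := inferInstance
  haveI hF'nil : Group.IsNilpotent F' :=
    Group.nilpotent_of_surjective _ (L.subtype.subgroupMap_surjective F)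
  -- `x` centralises `F'`
  have hFC : F' ≤ Subgroup.centralizer ({x} : Set G) := by
    rw [← Subgroup.subgroupOf_eq_top, ← Subgroup.index_eq_one]
    by_contra hne
    obtain ⟨r, hr, hrd⟩ := Nat.exists_prime_and_dvd hne
    haveI : Fact r.Prime := ⟨hr⟩
    obtain ⟨P⟩ : Nonempty (Sylow r F') := inferInstance
    refine P.not_dvd_index (hrd.trans (Subgroup.index_dvd_of_le ?_))
    haveI : (P : Subgroup F').Normal :=
      Sylow.normal_of_normalizerCondition (Group.normalizerCondition_of_isNilpotent (G := F')) P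
    haveI : (P : Subgroup F').Characteristic := P.characteristic_of_normal inferInstance
    set R := (P : Subgroup F').map F'.subtype with hR
    have hRn : R.Normal := inferInstance
    have hRp : IsPGroup r R := P.isPGroup'.map _
    intro y hy
    rw [Subgroup.mem_subgroupOf]
    have hyR : (y : G) ∈ R := Subgroup.mem_map_of_mem _ hy
    by_cases hrp : r = p
    · subst hrp
      have := CfsgLib.Solvable.le_pCore hRn hRp hyR
      rw [hO, Subgroup.mem_bot] at this
      rw [this]; exact one_mem _
    · obtain ⟨Q, hQ⟩ := (CfsgLib.ClassSize.exists_sylow_le_centralizer_iff r x).2 fun hd => hrp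
        ((Nat.prime_dvd_prime_iff_eq hr hp.out).1 (hr.dvd_of_dvd_pow (hcl ▸ hd)))
      exact hQ (hRp.le_sylow_of_normal Q hyR)
  have hxC : x ∈ Subgroup.centralizer (F' : Set G) := Subgroup.mem_centralizer_iff.2 fun f hf =>
    Subgroup.mem_centralizer_singleton_iff.1 (hFC hf)
  have hLC : L ≤ Subgroup.centralizer (F' : Set G) :=
    Subgroup.normalClosure_le_normal (Set.singleton_subset_iff.2 hxC)
  have hLF : L ≤ F' := fun y hy => by
    refine ⟨⟨y, hy⟩, CfsgLib.Solvable.centralizer_fittingSubgroup_le (G := L) ?_, rfl⟩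
    exact Subgroup.mem_centralizer_iff.2 fun f hf => Subtype.ext
      (Subgroup.mem_centralizer_iff.1 (hLC hy) (f : G) ⟨f, hf, rfl⟩)
  have hmem : ∀ c : G, c * x * c⁻¹ ∈ L := fun c =>
    (Subgroup.normalClosure_normal).conj_mem x (Subgroup.subset_normalClosure (Set.mem_singleton x)) c
  exact Subgroup.mem_centralizer_iff.1 (hLC (hmem h)) _ (hLF (hmem g))

theorem commutator_conjugates_mem_pCore {p : ℕ} [hp : Fact p.Prime] {x : G}
    (hx : ∃ a : ℕ, (Subgroup.centralizer ({x} : Set G)).index = p ^ a) (g h : G) :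
    (g * x * g⁻¹) * (h * x * h⁻¹) * (g * x * g⁻¹)⁻¹ * (h * x * h⁻¹)⁻¹ ∈ pCore p G := by
  obtain ⟨a, ha⟩ := hx
  haveI : (pCore p G).Normal := CfsgLib.Solvable.pCore_normal p G
  set π := QuotientGroup.mk' (pCore p G) with hπ
  have hdvd : (Subgroup.centralizer ({π x} : Set (G ⧸ pCore p G))).index ∣ p ^ a := by
    rw [← ha]
    refine (Subgroup.index_dvd_of_le ?_).trans
      (Subgroup.index_map_dvd (Subgroup.centralizer ({x} : Set G)) (QuotientGroup.mk'_surjective _))
    rintro _ ⟨c, hc, rfl⟩
    rw [Subgroup.mem_centralizer_singleton_iff, ← map_mul, ← map_mul,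
      Subgroup.mem_centralizer_singleton_iff.1 hc]
  obtain ⟨k, -, hk⟩ := (Nat.dvd_prime_pow hp.out).1 hdvd
  have hc := commute_conjugates (CfsgLib.Solvable.pCore_quotient_eq_bot (pCore p G) rfl) hk (π g) (π h)
  rw [← QuotientGroup.eq_one_iff]
  show π _ = 1
  simp only [map_mul, map_inv] at hc ⊢
  rw [hc]
  group

end CfsgLib.KazarinClass
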